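import Mathlib

/-!
# S4173, S2464, S2452: one row form (helper51)

`RowXX S`: there is an element `x` of prime order at least 5 such that every non-identity element of `S` is a product of
two conjugates of `x`. It serves the three statements.
-/

set_option autoImplicit false

namespace Cfsg.Agent.H51.XX

variable {S T : Type*} [Group S] [Group T]

/-- every non-identity element is a product of two conjugates of `x` -/
def Cov (x : S) : Prop := ∀ g : S, g ≠ 1 → ∃ u v : S, g = (u * x * u⁻¹) * (v * x * v⁻¹)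

/-- there is an element `x` of prime order, prime to 6, such that every non-identity element is a product of two
conjugates of `x` -/
def RowXX (S : Type*) [Group S] : Prop := ∃ x : S, (orderOf x).Prime ∧ Nat.Coprime (orderOf x) 6 ∧ Cov x

theorem Cov.map (e : S ≃* T) {x : S} (h : Cov x) : Cov (e x) := by
  intro g hg
  obtain ⟨u, v, huv⟩ := h (e.symm g) (by
    intro h1
    apply hg
    rw [← e.apply_symm_apply g, h1, map_one])
  refine ⟨e u, e v, ?_⟩
  rw [← map_inv, ← map_inv, ← map_mul, ← map_mul, ← map_mul, ← map_mul, ← map_mul, ← huv, e.apply_symm_apply]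

theorem RowXX.congr (e : S ≃* T) (h : RowXX S) : RowXX T := by
  obtain ⟨x, h1, h2, h3⟩ := h
  refine ⟨e x, ?_, ?_, h3.map e⟩
  · rwa [MulEquiv.orderOf_eq]
  · rwa [MulEquiv.orderOf_eq]

/-- the property of a single element -/
def Two (x g : S) : Prop := ∃ u v : S, g = (u * x * u⁻¹) * (v * x * v⁻¹)

theorem Two.of_isConj {x g h : S} (hg : Two x g) (e : IsConj g h) : Two x h := by
  obtain ⟨u, v, rfl⟩ := hg
  obtain ⟨c, rfl⟩ := isConj_iff.1 e
  exact ⟨c * u, c * v, by group⟩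

theorem Two.inv {x g : S} (hg : Two x g) (hx : IsConj x x⁻¹) : Two x g⁻¹ := by
  obtain ⟨u, v, rfl⟩ := hg
  obtain ⟨c, hc⟩ := isConj_iff.1 hx
  refine ⟨v * c, u * c, ?_⟩
  have h1 : ∀ w : S, w * c * x * (w * c)⁻¹ = w * x⁻¹ * w⁻¹ := by
    intro w
    rw [← hc]
    group
  rw [h1, h1]
  group

/-- products of three conjugates -/
theorem Cov.three {x : S} (h : Cov x) (hx : x ≠ 1) (hx2 : x * x ≠ 1) (g : S) :
    ∃ u v w : S, g = (u * x * u⁻¹) * (v * x * v⁻¹) * (w * x * w⁻¹) := by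
  by_cases hg : g = x
  · -- `x * z⁻¹` for a conjugate `z` of `x` other than `x`, or `x = 1 * x`
    by_cases hc : ∃ w : S, w * x * w⁻¹ ≠ x
    · obtain ⟨w, hw⟩ := hc
      obtain ⟨u, v, huv⟩ := h (g * (w * x * w⁻¹)⁻¹) (by
        intro h1
        rw [hg, mul_inv_eq_one] at h1
        exact hw h1.symm)
      exact ⟨u, v, w, by rw [← huv, inv_mul_cancel_right]⟩
    · push Not at hc
      -- `x` is central: every non-identity element is `x * x`, in particular `x = x * x`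
      obtain ⟨u, v, huv⟩ := h x hx
      rw [hc, hc] at huv
      exact absurd (mul_eq_left.1 huv.symm) hx
  · obtain ⟨u, v, huv⟩ := h (g * x⁻¹) (by
      intro h1
      exact hg (mul_inv_eq_one.1 h1))
    exact ⟨u, v, 1, by rw [← huv]; group⟩

theorem RowXX.s4173 [Finite S] (h : RowXX S) : ∃ C₁ C₂ : ConjClasses S, ∀ g : S, g ≠ 1 →
    ∃ x ∈ C₁.carrier, ∃ y ∈ C₂.carrier, g = x * y := by
  obtain ⟨x, -, -, h3⟩ := h
  refine ⟨ConjClasses.mk x, ConjClasses.mk x, fun g hg => ?_⟩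
  obtain ⟨u, v, huv⟩ := h3 g hg
  refine ⟨_, ?_, _, ?_, huv⟩
  · rw [ConjClasses.mem_carrier_iff_mk_eq, ConjClasses.mk_eq_mk_iff_isConj]
    exact (isConj_iff.2 ⟨u, rfl⟩).symm
  · rw [ConjClasses.mem_carrier_iff_mk_eq, ConjClasses.mk_eq_mk_iff_isConj]
    exact (isConj_iff.2 ⟨v, rfl⟩).symm

theorem RowXX.s2464 (h : RowXX S) : ∃ x y : S, Nat.Coprime (orderOf x) 6 ∧ Nat.Coprime (orderOf y) 6 ∧
    ∀ g : S, g ≠ 1 → ∃ u v : S, g = (u * x * u⁻¹) * (v * y * v⁻¹) := by
  obtain ⟨x, -, h2, h3⟩ := h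
  exact ⟨x, x, h2, h2, h3⟩

theorem RowXX.s2452 (h : RowXX S) : ∃ x y : S, (orderOf x).Prime ∧
    ((orderOf y).Prime ∨ ∃ s₁ s₂ : ℕ, s₁.Prime ∧ s₂.Prime ∧ s₁ ≠ s₂ ∧ orderOf y = s₁ * s₂) ∧
      (∀ g : S, g ≠ 1 → ∃ u v : S, g = (u * x * u⁻¹) * (v * y * v⁻¹)) ∧
      (∀ g : S, ∃ u v w : S, g = (u * x * u⁻¹) * (v * x * v⁻¹) * (w * x * w⁻¹)) := by
  obtain ⟨x, h1, h2, h3⟩ := h
  have hx : x ≠ 1 := by
    rintro rfl
    rw [orderOf_one] at h1
    exact Nat.not_prime_one h1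
  have hx2 : x * x ≠ 1 := by
    intro h
    have h4 : orderOf x ∣ 2 := orderOf_dvd_of_pow_eq_one (by rw [pow_two, h])
    have h5 := (Nat.prime_dvd_prime_iff_eq h1 Nat.prime_two).1 h4
    rw [h5] at h2
    exact absurd h2 (by decide)
  exact ⟨x, x, h1, Or.inl h1, h3, fun g => h3.three hx hx2 g⟩

end Cfsg.Agent.H51.XX
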