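import Cfsg.Agent.H51.XX.Ru
import Cfsg.Agent.H140.TC.Fam

/-!
# Row Ru of S4173 and S2464 in the form of the board (helper51)
-/

set_option autoImplicit false

namespace Cfsg.Agent.H51.XX

theorem RowXX.tc {S : Type*} [Group S] (h : RowXX S) : Cfsg.Agent.H140.TC.TC S := by
  obtain ⟨x, -, -, h3⟩ := h
  exact ⟨x, x, h3⟩

/-- **S4173, row Ru** -/
theorem tc_Ru {S : Type*} [Group S] (h : Cfsg.Spor.IsoRu S) : Cfsg.Agent.H140.TC.TC S := (Ru.xx_ru h).tc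

/-- **S2464, row Ru** -/
theorem tc6_Ru {S : Type*} [Group S] (h : Cfsg.Spor.IsoRu S) :
    ∃ x y : S, Nat.Coprime (orderOf x) 6 ∧ Nat.Coprime (orderOf y) 6 ∧
      ∀ g : S, g ≠ 1 → ∃ u v : S, g = (u * x * u⁻¹) * (v * y * v⁻¹) := (Ru.xx_ru h).s2464

end Cfsg.Agent.H51.XX
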