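import Cfsg.Agent.H51.XX.Base
import Cfsg.Agent.H51.Ore.RuMain

/-!
# S4173, S2464, S2452, row Ru (helper51)

Every non-identity element of the Rudvalis group is a product of two conjugates of the element `x` of order 29.
-/

set_option autoImplicit false
set_option maxRecDepth 100000
set_option exponentiation.threshold 5000

namespace Cfsg.Agent.H51.XX.Ru

open Cfsg.Agent.Lib Cfsg.Agent.Lib.BitNet Cfsg.Agent.SporadicB Cfsg.Agent.SporadicB.RuData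
open Cfsg.Agent.SporadicB.RuOrder Cfsg.Agent.RuD.Data Cfsg.Agent.SporRec.TCUpperCert Cfsg.Agent.SporRec.R3.Kernel
open Cfsg.Agent.RuD.Letters Cfsg.Agent.KFacts.Ru.CentEng Cfsg.Agent.CpAutRuFive.Eng Cfsg.Agent.H51.Ore.Ru

/-- the element of order 29 -/
noncomputable def X : RuOrder.H := wprod ml w_29a

theorem two_of {a a' b b' w w' : List ℕ}
    (h : chkRel [a ++ a', b ++ b', w ++ w', a ++ w_29a ++ a' ++ b ++ w_29a ++ b' ++ w'] = true) :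
    Two X (wprod ml w : RuOrder.H) := by
  have h1 := rel_of_chk h
  have r1 := h1 (a ++ a') (by simp)
  have r2 := h1 (b ++ b') (by simp)
  have r3 := h1 (w ++ w') (by simp)
  have r4 := h1 (a ++ w_29a ++ a' ++ b ++ w_29a ++ b' ++ w') (by simp)
  rw [wprod_append] at r1 r2 r3
  simp only [wprod_append] at r4
  have e1 := eq_inv_of_mul_eq_one_right r1
  have e2 := eq_inv_of_mul_eq_one_right r2
  have e3 := eq_inv_of_mul_eq_one_right r3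
  rw [e1, e2, e3, mul_inv_eq_one] at r4
  refine ⟨wprod ml a, wprod ml b, ?_⟩
  rw [← r4, X]
  group

theorem t_2a : Two X (wprod ml w_2a : RuOrder.H) :=
  two_of (a := [7, 5, 7, 7, 1, 3, 8, 1, 0]) (a' := [0, 6, 4, 7, 6, 3, 3, 5, 3]) (b := [5, 1, 7, 8, 6, 3, 5, 2, 1, 1]) (b' := [6, 6, 2, 5, 7, 1, 4, 3, 6, 5])
    (w' := [8, 0, 2, 4, 2, 0]) (by decide +kernel)

theorem t_2b : Two X (wprod ml w_2b : RuOrder.H) :=
  two_of (a := [4, 5, 2, 1, 0]) (a' := [0, 6, 2, 5, 8]) (b := [5, 7, 7, 5, 7, 7, 2, 1, 3, 6]) (b' := [1, 7, 6, 2, 3, 3, 5, 3, 3, 5])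
    (w' := [7, 0, 1, 2, 6, 3, 1, 2, 6, 0]) (by decide +kernel)

theorem t_3a : Two X (wprod ml w_3a : RuOrder.H) :=
  two_of (a := [5, 3, 3, 1, 3, 0]) (a' := [0, 7, 6, 7, 7, 5]) (b := [8, 7, 6, 3, 5, 3, 4, 1, 1, 2, 0]) (b' := [0, 2, 6, 6, 8, 7, 5, 7, 1, 3, 4])
    (w' := [0, 5, 2, 0, 2, 5]) (by decide +kernel)

theorem t_4a : Two X (wprod ml w_4a : RuOrder.H) :=
  two_of (a := [3, 3, 3, 5, 3, 5]) (a' := [5, 7, 5, 7, 7, 7]) (b := [8, 1, 7, 6, 0, 5, 7, 7, 0]) (b' := [0, 3, 3, 5, 0, 1, 3, 6, 4])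
    (w' := [6, 2, 7, 2, 3, 1, 7, 2, 3, 2]) (by decide +kernel)

theorem t_4b : Two X (wprod ml w_4b : RuOrder.H) :=
  two_of (a := [7, 2, 6, 4, 5]) (a' := [5, 8, 1, 2, 3]) (b := [7, 8, 0, 5, 7, 5, 0, 8, 6]) (b' := [1, 4, 0, 5, 3, 5, 0, 4, 3])
    (w' := [0, 7, 6, 2, 5, 1, 3, 0, 5, 2]) (by decide +kernel)

theorem t_4c : Two X (wprod ml w_4c : RuOrder.H) :=
  two_of (a := [2, 1, 3, 1, 3, 6]) (a' := [1, 7, 6, 7, 6, 2]) (b := [5, 1, 3, 6, 7, 2, 6, 7, 0, 4]) (b' := [8, 0, 3, 1, 2, 3, 1, 7, 6, 5])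
    (w' := [4, 3, 1, 7, 5, 0, 3, 6, 7, 8, 0, 5]) (by decide +kernel)

theorem t_4d : Two X (wprod ml w_4d : RuOrder.H) :=
  two_of (a := [3, 4]) (a' := [8, 7]) (b := [3, 5, 3, 4]) (b' := [8, 7, 5, 7])
    (w' := [3, 2, 5, 7, 5, 2]) (by decide +kernel)

theorem t_5a : Two X (wprod ml w_5a : RuOrder.H) :=
  two_of (a := [3, 5, 7, 1, 1, 2, 0]) (a' := [0, 2, 6, 6, 3, 5, 7]) (b := [7, 5, 3, 1, 2, 6, 7, 0, 5, 3]) (b' := [7, 5, 0, 3, 1, 2, 6, 7, 5, 3])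
    (w' := [6, 5, 2, 1, 2, 5]) (by decide +kernel)

theorem t_5b : Two X (wprod ml w_5b : RuOrder.H) :=
  two_of (a := [1, 1, 3, 4, 2]) (a' := [2, 8, 7, 6, 6]) (b := [5, 7, 5, 3, 5, 3, 3, 6, 3, 1, 0]) (b' := [0, 6, 7, 1, 7, 7, 5, 7, 5, 3, 5])
    (w' := [8, 5, 0, 2, 5, 4, 2, 0]) (by decide +kernel)

theorem t_6a : Two X (wprod ml w_6a : RuOrder.H) :=
  two_of (a := [7]) (a' := [3]) (b := [7, 5, 3, 2]) (b' := [2, 7, 5, 3])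
    (w' := [7, 5, 0, 3, 0, 5]) (by decide +kernel)

theorem t_7a : Two X (wprod ml w_7a : RuOrder.H) :=
  two_of (a := [4, 1, 3]) (a' := [7, 6, 8]) (b := [7, 4, 1, 3, 0]) (b' := [0, 7, 6, 8, 3])
    (w' := [7, 2, 0, 3, 0, 2]) (by decide +kernel)

theorem t_8a : Two X (wprod ml w_8a : RuOrder.H) :=
  two_of (a := [3, 4, 1, 1, 7, 2]) (a' := [2, 3, 6, 6, 8, 7]) (b := [6, 7, 7, 0, 5, 1, 1, 3, 5, 2]) (b' := [2, 5, 7, 6, 6, 5, 0, 3, 3, 1])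
    (w' := [4, 0, 3, 0, 5, 7, 0, 8, 5, 0]) (by decide +kernel)

theorem t_8b : Two X (wprod ml w_8b : RuOrder.H) :=
  two_of (a := [4, 3, 5, 1, 3]) (a' := [7, 6, 5, 7, 8]) (b := [8, 7, 5, 7, 7, 5, 4, 3, 5]) (b' := [5, 7, 8, 5, 3, 3, 5, 3, 4])
    (w' := [3, 5, 0, 8, 5, 4, 5, 7, 8, 5, 4, 0]) (by decide +kernel)

theorem t_8c : Two X (wprod ml w_8c : RuOrder.H) :=
  two_of (a := [0, 4, 3, 1, 1, 3, 0]) (a' := [0, 7, 6, 6, 7, 8, 0]) (b := [8, 7, 5, 3, 2, 6, 5, 7, 0]) (b' := [0, 3, 5, 1, 2, 7, 5, 3, 4])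
    (w' := [3, 6, 3, 4, 5, 0, 8, 7, 1, 7, 0, 5]) (by decide +kernel)

theorem t_10a : Two X (wprod ml w_10a : RuOrder.H) :=
  two_of (a := [4, 3, 5, 7]) (a' := [3, 5, 7, 8]) (b := [5, 7, 0, 5, 7, 1, 3, 5, 7, 5]) (b' := [5, 3, 5, 7, 6, 3, 5, 0, 3, 5])
    (w' := [1, 8, 0, 2, 4, 6, 2, 0]) (by decide +kernel)

theorem t_10b : Two X (wprod ml w_10b : RuOrder.H) :=
  two_of (a := [3, 8, 3]) (a' := [7, 4, 7]) (b := [7, 7, 5]) (b' := [5, 3, 3])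
    (w' := [3, 3, 5, 2, 7, 7, 2, 5]) (by decide +kernel)

theorem t_12a : Two X (wprod ml w_12a : RuOrder.H) :=
  two_of (a := [6, 2, 6, 4, 5, 3]) (a' := [7, 5, 8, 1, 2, 1]) (b := [6, 3, 6, 0, 5, 3, 4, 0, 5, 1]) (b' := [6, 5, 0, 8, 7, 5, 0, 1, 7, 1])
    (w' := [7, 5, 4, 0, 2, 8, 5, 3, 2, 0]) (by decide +kernel)

theorem t_12b : Two X (wprod ml w_12b : RuOrder.H) :=
  two_of (a := [0, 5, 3, 6, 5, 4]) (a' := [8, 5, 1, 7, 5, 0]) (b := [0, 5, 3, 0, 8, 0, 5, 1, 1, 2]) (b' := [2, 6, 6, 5, 0, 4, 0, 7, 5, 0])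
    (w' := [7, 4, 0, 5, 8, 3, 5, 0]) (by decide +kernel)

theorem t_13a : Two X (wprod ml w_13a : RuOrder.H) :=
  two_of (a := [5, 3, 6, 2, 1, 0]) (a' := [0, 6, 2, 1, 7, 5]) (b := [0, 8, 7, 5, 3, 4, 0, 5, 3, 8]) (b' := [4, 7, 5, 0, 8, 7, 5, 3, 4, 0])
    (w' := [3, 1, 2, 0, 6, 7, 0, 2]) (by decide +kernel)

theorem t_14a : Two X (wprod ml w_14a : RuOrder.H) :=
  two_of (a := [1, 7, 6, 7, 1, 1]) (a' := [6, 6, 3, 1, 3, 6]) (b := [3, 2, 1, 7, 7, 5, 0, 8, 3, 1]) (b' := [6, 7, 4, 0, 5, 3, 3, 6, 2, 7])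
    (w' := [3, 1, 5, 2, 6, 7, 2, 5]) (by decide +kernel)

theorem t_14b : Two X (wprod ml w_14b : RuOrder.H) :=
  two_of (a := [8, 0, 5, 7, 2, 0]) (a' := [0, 2, 3, 5, 0, 4]) (b := [6, 5, 3, 5, 3, 5, 1, 3, 6]) (b' := [1, 7, 6, 5, 7, 5, 7, 5, 1])
    (w' := [8, 7, 2, 0, 3, 4, 0, 2]) (by decide +kernel)

theorem t_14c : Two X (wprod ml w_14c : RuOrder.H) :=
  two_of (a := [6, 3, 2, 1, 3, 5, 2]) (a' := [2, 5, 7, 6, 2, 7, 1]) (b := [3, 5, 4, 7, 6, 7, 6, 3, 2, 1, 0]) (b' := [0, 6, 2, 7, 1, 3, 1, 3, 8, 5, 7])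
    (w' := [7, 8, 2, 0, 4, 3, 0, 2]) (by decide +kernel)

theorem t_15a : Two X (wprod ml w_15a : RuOrder.H) :=
  two_of (a := [5, 1, 3, 4, 0, 5, 1]) (a' := [6, 5, 0, 8, 7, 6, 5]) (b := [5, 3, 3, 6, 2, 1, 3, 0, 5, 7]) (b' := [3, 5, 0, 7, 6, 2, 1, 7, 7, 5])
    (w' := [5, 0, 7, 8, 5, 4, 3, 0]) (by decide +kernel)

theorem t_16a : Two X (wprod ml w_16a : RuOrder.H) :=
  two_of (a := [4, 1, 3, 2, 6, 2]) (a' := [2, 1, 2, 7, 6, 8]) (b := [5, 1, 3, 5, 1, 3, 8, 6, 7, 5]) (b' := [5, 3, 1, 4, 7, 6, 5, 7, 6, 5])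
    (w' := [3, 5, 0, 4, 5, 8, 5, 7, 4, 5, 8, 0]) (by decide +kernel)

theorem t_20a : Two X (wprod ml w_20a : RuOrder.H) :=
  two_of (a := [3, 6, 3, 0, 5, 1, 1]) (a' := [6, 6, 5, 0, 7, 1, 7]) (b := [5, 3, 6, 3, 5, 1, 7, 1, 2, 0]) (b' := [0, 2, 6, 3, 6, 5, 7, 1, 7, 5])
    (w' := [7, 6, 5, 3, 5, 7, 1, 3, 3, 5, 7, 5]) (by decide +kernel)

theorem t_20b : Two X (wprod ml w_20b : RuOrder.H) :=
  two_of (a := [7, 5, 7, 7, 6, 5]) (a' := [5, 1, 3, 3, 5, 3]) (b := [4, 3, 6, 5, 7, 2, 6, 5, 7, 4]) (b' := [8, 3, 5, 1, 2, 3, 5, 1, 7, 8])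
    (w' := [6, 7, 5, 7, 5, 3, 3, 1, 7, 5, 3, 5]) (by decide +kernel)

theorem t_20c : Two X (wprod ml w_20c : RuOrder.H) :=
  two_of (a := [0, 5, 3, 3, 5, 7, 2]) (a' := [2, 3, 5, 7, 7, 5, 0]) (b := [0, 5, 3, 3, 0, 5, 7, 5, 2]) (b' := [2, 5, 3, 5, 0, 7, 7, 5, 0])
    (w' := [5, 0, 7, 6, 7, 5, 3, 1, 3, 0]) (by decide +kernel)

theorem t_24a : Two X (wprod ml w_24a : RuOrder.H) :=
  two_of (a := [7, 2, 6, 4, 7, 6, 0]) (a' := [0, 1, 3, 8, 1, 2, 3]) (b := [8, 7, 2, 6, 3, 1, 7, 0]) (b' := [0, 3, 6, 7, 1, 2, 3, 4])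
    (w' := [4, 7, 7, 5, 0, 3, 3, 8, 0, 5]) (by decide +kernel)

theorem t_24b : Two X (wprod ml w_24b : RuOrder.H) :=
  two_of (a := [7, 6, 3, 8, 0, 5]) (a' := [5, 0, 4, 7, 1, 3]) (b := [7, 5, 0, 4, 7, 6, 3, 5, 3, 3]) (b' := [7, 7, 5, 7, 1, 3, 8, 0, 5, 3])
    (w' := [0, 1, 5, 7, 5, 3, 6, 0, 7, 5, 3, 5]) (by decide +kernel)

theorem t_26a : Two X (wprod ml w_26a : RuOrder.H) :=
  two_of (a := [4, 1, 3, 0, 5, 4, 0]) (a' := [0, 8, 5, 0, 7, 6, 8]) (b := [1, 3, 6, 3, 5, 3, 5, 1, 3, 3]) (b' := [7, 7, 6, 5, 7, 5, 7, 1, 7, 6])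
    (w' := [7, 1, 5, 2, 0, 5, 6, 3, 0, 2]) (by decide +kernel)

theorem t_26b : Two X (wprod ml w_26b : RuOrder.H) :=
  two_of (a := [0, 4, 2, 1, 1, 0]) (a' := [0, 6, 6, 2, 8, 0]) (b := [8, 1, 7, 6, 0, 5, 3, 4, 3, 1, 0]) (b' := [0, 6, 7, 8, 7, 5, 0, 1, 3, 6, 4])
    (w' := [0, 6, 3, 5, 2, 7, 1, 0, 2, 5]) (by decide +kernel)

theorem t_26c : Two X (wprod ml w_26c : RuOrder.H) :=
  two_of (a := [5, 1, 1, 0]) (a' := [0, 6, 6, 5]) (b := [7, 4, 5, 3, 2, 1, 7, 4, 5, 2]) (b' := [2, 5, 8, 3, 6, 2, 7, 5, 8, 3])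
    (w' := [3, 8, 1, 2, 0, 6, 4, 7, 0, 2]) (by decide +kernel)

theorem t_29a : Two X (wprod ml w_29a : RuOrder.H) :=
  two_of (a := [4, 5, 3]) (a' := [7, 5, 8]) (b := [4, 5, 3, 4, 5, 3, 5]) (b' := [5, 7, 5, 8, 7, 5, 8])
    (w' := [5, 8, 3, 5, 7, 4]) (by decide +kernel)

theorem t_29b : Two X (wprod ml w_29b : RuOrder.H) :=
  two_of (a := [4]) (a' := [8]) (b := [4, 5, 7, 5, 2]) (b' := [2, 5, 3, 5, 8])
    (w' := [5, 3, 4, 5, 3, 5, 7, 5, 8, 7]) (by decide +kernel)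

theorem order_X : orderOf X = 29 := by
  have hp : Fact (Nat.Prime 29) := ⟨by norm_num⟩
  refine orderOf_eq_prime ?_ ?_
  · rw [X, ← wprod_rpw]
    exact rel_of_chk (rels := [rpw w_29a 29]) (by decide +kernel) _ (List.mem_singleton_self _)
  · exact ne_one_of (b := 0) (by norm_num) (by decide +kernel)

theorem real_X : IsConj X X⁻¹ := by
  obtain ⟨x, hx⟩ := g_29a.2
  exact isConj_iff.2 ⟨x, hx⟩

theorem two_cls : ∀ r ∈ cls, r.w ≠ [] → Two X (wprod ml r.w : RuOrder.H) := by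
  intro r hr hne
  simp only [cls, List.mem_cons, List.not_mem_nil, or_false] at hr
  rcases hr with rfl | rfl | rfl | rfl | rfl | rfl | rfl | rfl | rfl | rfl | rfl | rfl | rfl | rfl | rfl | rfl | rfl | rfl | rfl | rfl | rfl | rfl | rfl | rfl | rfl | rfl | rfl | rfl | rfl | rfl | rfl | rfl | rfl | rfl | rfl
  · exact absurd rfl hne
  exacts [t_2a, t_2b, t_3a, t_4a, t_4b, t_4c, t_4d, t_5a, t_5b, t_6a, t_7a, t_8a, t_8b, t_8c, t_10a, t_10b, t_12a, t_12b, t_13a, t_14a, t_14b, t_14c, t_15a, t_16a, t_20a, t_20b, t_20c, t_24a, t_24b, t_26a, t_26b, t_26c, t_29a, t_29b]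

theorem cov : Cov X := by
  intro g hg
  change Two X g
  rcases cover g with ⟨r, hr, h⟩ | h
  · refine (two_cls r hr ?_).of_isConj h
    intro h1
    rw [h1] at h
    exact hg (isConj_one_right.1 h)
  · exact (t_16a.inv real_X).of_isConj h

theorem row : RowXX RuOrder.H :=
  ⟨X, by rw [order_X]; norm_num, by rw [order_X]; norm_num, cov⟩

/-- **S4173, S2464, S2452, row Ru** -/
theorem xx_ru {S : Type*} [Group S] (h : Cfsg.Spor.IsoRu S) : RowXX S := by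
  obtain ⟨e⟩ := h
  exact row.congr (e.trans Cfsg.Agent.RuLat.Main.equiv).symm

end Cfsg.Agent.H51.XX.Ru
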